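import Cfsg.Agent.H332.EB.Two_m3
import Cfsg.Agent.H305.EB.RankThree
import Cfsg.Agent.H323.SuzOutB
import Cfsg.Agent.KFacts.SuzOut
import Cfsg.Agent.FastGrp
import Cfsg.Agent.Prune
set_option linter.all false
prune_inst 0x7f00000000000000000000000000000000000000000000000000000000000000000000000000000000000000000000000000000000000000000000000000000000000000000000000000000000000000003fffffffffffffffffffffffffffbeffbdffffffff
open scoped Cfsg.Agent.FastGrp

-- part: H689/EB/ActRow
section
/-!
# TEAM EB: rows from an action of `S` extended by all automorphisms (helper689)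

* `evenB_of_action` : `S` acts on the finite set `X`; point stabilizers are contained in no other point stabilizer; every
  automorphism of `S` is induced by a permutation of `X`; `|X| + rank` is odd; the constituents of the permutation character
  are in the principal 2-block (this is asked for all isomorphic copies of `S`). Then `EvenB S`.
-/

set_option autoImplicit false
set_option linter.style.haveILetI false

namespace Cfsg.Agent.H689.EB

open Cfsg Cfsg.Agent.H610.EB Cfsg.Agent.H694 Cfsg.Agent.H684.EB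
open MulAction (stabilizer orbitRel)

universe u v

/-- the action of an isomorphic copy -/
@[reducible] def actE {S : Type*} [Group S] {N : Type*} [Group N] (e : S ≃* N) (X : Type v) [MulAction S X] :
    MulAction N X :=
  MulAction.compHom X e.symm.toMonoidHom

section

variable {N : Type u} [Group N] {X : Type v} [MulAction N X]

/-- the set of the point stabilizers -/
def stabs (N : Type u) [Group N] (X : Type v) [MulAction N X] : Set (Subgroup N) := Set.range (stabilizer N : X → Subgroup N)

theorem map_conj_stabilizer (g : N) (x : X) :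
    (stabilizer N x).map (MulAut.conj g).toMonoidHom = stabilizer N (g • x) := by
  ext s
  constructor
  · rintro ⟨t, ht, rfl⟩
    have ht' : t • x = x := ht
    show (g * t * g⁻¹) • g • x = g • x
    rw [mul_smul, mul_smul, inv_smul_smul, ht']
  · intro hs
    have hs' : s • g • x = g • x := hs
    refine ⟨g⁻¹ * s * g, ?_, ?_⟩
    · show (g⁻¹ * s * g) • x = x
      rw [mul_smul, mul_smul, hs', inv_smul_smul]
    · show g * (g⁻¹ * s * g) * g⁻¹ = s
      group

/-- points and stabilizers -/
noncomputable def stabsEquiv (h : ∀ x y : X, stabilizer N x ≤ stabilizer N y → x = y) : X ≃ stabs N X :=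
  Equiv.ofInjective _ fun x y hxy => h x y (le_of_eq hxy)

theorem permS_stabs (h : ∀ x y : X, stabilizer N x ≤ stabilizer N y → x = y) : permS (stabs N X) = permC N X := by
  funext s
  rw [permS, permC]
  congr 1
  refine (Nat.card_eq_of_bijective (fun x : MulAction.fixedBy X s =>
    (⟨stabilizer N (x : X), ⟨x, rfl⟩, by rw [map_conj_stabilizer, x.2]⟩ :
      {H : Subgroup N // H ∈ stabs N X ∧ H.map (MulAut.conj s).toMonoidHom = H})) ⟨?_, ?_⟩).symm
  · intro x y hxy
    exact Subtype.ext (h _ _ (le_of_eq (congrArg Subtype.val hxy)))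
  · rintro ⟨_, ⟨x, rfl⟩, hx⟩
    rw [map_conj_stabilizer] at hx
    exact ⟨⟨x, h _ _ (le_of_eq hx)⟩, rfl⟩

theorem card_pairRel (h : ∀ x y : X, stabilizer N x ≤ stabilizer N y → x = y) :
    Nat.card (Quotient (pairRel (stabs N X) (stabs N X))) = Nat.card (orbitRel.Quotient N (X × X)) := by
  refine Nat.card_congr (Quotient.congr ((stabsEquiv h).prodCongr (stabsEquiv h)) ?_).symm
  rintro ⟨x, y⟩ ⟨x', y'⟩
  show (orbitRel N (X × X)) (x, y) (x', y') ↔ _
  rw [MulAction.orbitRel_apply]
  constructor
  · rintro ⟨g, hg⟩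
    apply (pairRel _ _).symm
    have h1 : g • x' = x := congrArg Prod.fst hg
    have h2 : g • y' = y := congrArg Prod.snd hg
    refine ⟨g, ?_, ?_⟩
    · show (stabilizer N x').map (MulAut.conj g).toMonoidHom = stabilizer N x
      rw [map_conj_stabilizer, h1]
    · show (stabilizer N y').map (MulAut.conj g).toMonoidHom = stabilizer N y
      rw [map_conj_stabilizer, h2]
  · intro h5
    obtain ⟨g, h6, h7⟩ := (pairRel _ _).symm h5
    have h6' : (stabilizer N x').map (MulAut.conj g).toMonoidHom = stabilizer N x := h6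
    have h7' : (stabilizer N y').map (MulAut.conj g).toMonoidHom = stabilizer N y := h7
    rw [map_conj_stabilizer] at h6' h7'
    exact ⟨g, Prod.ext (h _ _ (le_of_eq h6')) (h _ _ (le_of_eq h7'))⟩

end

/-- **Rows from an action.** -/
theorem evenB_of_action {S : Type u} [Group S] {X : Type v} [Finite X] [MulAction S X]
    (hinj : ∀ x y : X, stabilizer S x ≤ stabilizer S y → x = y)
    (haut : ∀ α : S ≃* S, ∃ p : Equiv.Perm X, ∀ (s : S) (x : X), α s • p x = p (s • x))
    (hodd : Odd (Nat.card X + Nat.card (orbitRel.Quotient S (X × X))))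
    (hmem : ∀ (N : Type u) [Group N] [Fintype N] (e : S ≃* N) (M : Ideal AlgInt), IsPModular 2 M → ∀ χ : IrrCharacter N,
      (letI := actE e X; classInner (permC N X) (χ : N → ℂ) ≠ 0) → χ ∈ principalBlock M N) : EvenB S := by
  intro G _ _ N _ _ f hC hidx k hk M hM
  obtain ⟨e⟩ := f
  letI := actE e X
  have hsm : ∀ (n : N) (x : X), n • x = e.symm n • x := fun _ _ => rfl
  have hinj' : ∀ x y : X, stabilizer N x ≤ stabilizer N y → x = y := by
    intro x y h
    apply hinj x y
    intro s hs
    have h1 : e s ∈ stabilizer N x := by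
      show e.symm (e s) • x = x
      rw [MulEquiv.symm_apply_apply]
      exact hs
    have h2 : e.symm (e s) • y = y := h h1
    rwa [MulEquiv.symm_apply_apply] at h2
  refine concl_of_set hM N hidx hk (stabs N X) ?_ ?_ ?_
  · rintro g _ ⟨x, rfl⟩
    let α : S ≃* S := (e.trans (MulAut.conjNormal g : MulAut N)).trans e.symm
    obtain ⟨p, hp⟩ := haut α
    refine ⟨p x, ?_⟩
    ext n
    constructor
    · intro hn
      have hn' : e.symm n • p x = p x := hn
      refine ⟨e (α.symm (e.symm n)), ?_, ?_⟩
      · show e.symm (e (α.symm (e.symm n))) • x = x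
        rw [MulEquiv.symm_apply_apply]
        apply p.injective
        rw [← hp, MulEquiv.apply_symm_apply, hn']
      · have h1 : e.symm ((MulAut.conjNormal g : MulAut N) (e (α.symm (e.symm n)))) = e.symm n :=
          α.apply_symm_apply (e.symm n)
        exact e.symm.injective h1
    · rintro ⟨t, ht, rfl⟩
      have ht' : e.symm t • x = x := ht
      show e.symm ((MulAut.conjNormal g : MulAut N) t) • p x = p x
      have h1 : α (e.symm t) = e.symm ((MulAut.conjNormal g : MulAut N) t) := by
        show e.symm ((MulAut.conjNormal g : MulAut N) (e (e.symm t))) = _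
        rw [MulEquiv.apply_symm_apply]
      rw [← h1, hp, ht']
  · intro φ hφ1 hφ2 hφ3
    refine hmem N e M hM φ ?_
    show classInner (permC N X) (φ : N → ℂ) ≠ 0
    rw [permS_stabs hinj'] at hφ3
    intro h0
    rw [mu, h0] at hφ3
    simp at hφ3
  · rw [← Nat.card_congr (stabsEquiv hinj'), card_pairRel hinj']
    have h1 : Nat.card (orbitRel.Quotient N (X × X)) = Nat.card (orbitRel.Quotient S (X × X)) := by
      refine Nat.card_congr (Quotient.congr (Equiv.refl _) fun x y => ?_)
      rw [Equiv.refl_apply, Equiv.refl_apply]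
      show (orbitRel N (X × X)) x y ↔ (orbitRel S (X × X)) x y
      rw [MulAction.orbitRel_apply, MulAction.orbitRel_apply]
      constructor
      · rintro ⟨n, hn⟩
        exact ⟨e.symm n, hn⟩
      · rintro ⟨s, hs⟩
        refine ⟨e s, ?_⟩
        rw [← hs]
        refine Prod.ext ?_ ?_
        · show e.symm (e s) • y.1 = s • y.1
          rw [MulEquiv.symm_apply_apply]
        · show e.symm (e s) • y.2 = s • y.2
          rw [MulEquiv.symm_apply_apply]
    rwa [h1]

end Cfsg.Agent.H689.EB
end

-- part: H689/EB/RankThree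
section
/-!
# TEAM EB: rank 3 graphs (helper689)

The structure `Rank3` (form of the plan of TEAM EB), `Rank3.mem'` = criterion (E), `Rank3.exists'`; everything from
helper305's theorems for the structure `R3` of helper690.
-/

set_option autoImplicit false

namespace Cfsg.Agent.H689.EB

open Cfsg Cfsg.Agent.H690.Spor.RankThree Cfsg.Agent.H610.EB Cfsg.Agent.H694 Cfsg.Agent.H694.EB

universe u v

/-- `S` acts on `X` with rank 3, `A` is one of the two nontrivial orbitals (self-paired), of valency `k`;
`lam`, `mu` are the numbers of common neighbours. -/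
structure Rank3 (S : Type u) [Group S] (X : Type v) [MulAction S X] (A : X → X → Prop) (n k lam mu : ℕ) : Prop where
  card : Nat.card X = n
  symm : ∀ x y, A x y → A y x
  irrefl : ∀ x, ¬ A x x
  inv : ∀ (g : S) x y, A x y → A (g • x) (g • y)
  trans : ∀ x y : X, ∃ g : S, g • x = y
  orb1 : ∀ x y x' y', A x y → A x' y' → ∃ g : S, g • x = x' ∧ g • y = y'
  orb2 : ∀ x y x' y', x ≠ y → ¬ A x y → x' ≠ y' → ¬ A x' y' → ∃ g : S, g • x = x' ∧ g • y = y'
  deg : ∀ x, Nat.card {y // A x y} = k
  lam_eq : ∀ x y, A x y → Nat.card {z // A x z ∧ A y z} = lam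
  mu_eq : ∀ x y, x ≠ y → ¬ A x y → Nat.card {z // A x z ∧ A y z} = mu

variable {S : Type u} [Group S] {X : Type v} [MulAction S X] {A : X → X → Prop} {n k lam mu : ℕ}

/-- the structure of helper690 -/
theorem Rank3.toR3 (h : Rank3 S X A n k lam mu) (hk : 0 < k) (hkn : k + 1 < n) : R3 S X A k (n - 1 - k) where
  trans := ⟨h.trans⟩
  symm := h.symm
  irr := h.irrefl
  inv := h.inv
  one := h.orb1
  two := h.orb2
  cardk := h.deg
  k0 := hk
  l0 := by omega
  cardn := by rw [h.card]; omega

theorem com_eq (hs : ∀ x y, A x y → A y x) (x y : X) : R3.com A x y = Nat.card {z // A x z ∧ A y z} :=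
  Nat.card_congr (Equiv.subtypeEquivRight fun _ => ⟨fun h => ⟨h.1, hs _ _ h.2⟩, fun h => ⟨h.1, hs _ _ h.2⟩⟩)

/-- **Criterion (E)**, nondegenerate. -/
theorem Rank3.mem' [Fintype S] [Fintype X] (h : Rank3 S X A n k lam mu) (hk : 0 < k) (hkn : k + 1 < n)
    {M : Ideal AlgInt} (hM : IsPModular 2 M) (hn : Even n) (hl : Even lam) (hm : Even mu)
    (χ : IrrCharacter S) (hχ : classInner (permC S X) (χ : S → ℂ) ≠ 0) : χ ∈ principalBlock M S := by
  classical
  have h3 := h.toR3 hk hkn
  refine H305.EB.mem_of_R3 h3 (a := lam) (b := mu) hl hm ?_ (fun x y => ?_) hM χ hχ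
  · obtain ⟨m, hm⟩ := hn
    exact ⟨m - 1, by omega⟩
  · rw [R3.sum_mul]
    by_cases hxy : x = y
    · subst hxy
      rw [h3.com_self, R3.dia, R3.adj, if_pos rfl, if_neg (h.irrefl x)]
      ring
    · rw [com_eq h.symm, R3.dia, R3.adj, if_neg hxy]
      by_cases hA : A x y
      · rw [h.lam_eq x y hA, if_pos hA]
        ring
      · rw [h.mu_eq x y hxy hA, if_neg hA]
        ring

/-- `lam`, `mu` from the subdegrees. -/
theorem Rank3.exists [Fintype S] [Fintype X] (A : X → X → Prop) (n k : ℕ)
    (card : Nat.card X = n) (symm : ∀ x y, A x y → A y x) (irrefl : ∀ x, ¬ A x x)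
    (inv : ∀ (g : S) x y, A x y → A (g • x) (g • y)) (trans : ∀ x y : X, ∃ g : S, g • x = y)
    (orb1 : ∀ x y x' y', A x y → A x' y' → ∃ g : S, g • x = x' ∧ g • y = y')
    (orb2 : ∀ x y x' y', x ≠ y → ¬ A x y → x' ≠ y' → ¬ A x' y' → ∃ g : S, g • x = x' ∧ g • y = y')
    (deg : ∀ x, Nat.card {y // A x y} = k) (hk : 0 < k) (hkn : k + 1 < n) (heven : Even n) :
    ∃ lam mu : ℕ, Rank3 S X A n k lam mu ∧ k * (k - 1 - lam) = (n - 1 - k) * mu ∧ lam + 1 ≤ k ∧
      IsSquare (((lam : ℤ) - mu) ^ 2 + 4 * ((k : ℤ) - mu)) := by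
  classical
  have h3 : R3 S X A k (n - 1 - k) := ⟨⟨trans⟩, symm, irrefl, inv, orb1, orb2, deg, hk, by omega, by rw [card]; omega⟩
  obtain ⟨a, b, hab⟩ := h3.exists_params
  have hp := h3.params_eq hab
  have hle : a + 1 ≤ k := by
    by_contra hcon
    have h1 : k * k ≤ k * a := Nat.mul_le_mul_left k (by omega)
    omega
  obtain ⟨χ₁, χ₂, f, g, D, hf, hg, hval, hfg, -, hD, hsq⟩ := H305.EB.frame_ab h3 hab
  have hne : f ≠ g := by
    rintro rfl
    obtain ⟨m, hm⟩ := heven
    omega
  refine ⟨a, b, ⟨card, symm, irrefl, inv, trans, orb1, orb2, deg, fun x y hA => ?_, fun x y hne hA => ?_⟩, ?_, hle, ?_⟩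
  · have h1 := hab x y
    rw [R3.sum_mul, R3.dia, R3.adj, if_pos hA, if_neg (fun hxy => irrefl x (by rwa [← hxy] at hA)),
      com_eq symm] at h1
    have h2 : ((Nat.card {z // A x z ∧ A y z} : ℕ) : ℂ) = (a : ℂ) := by rw [h1]; ring
    exact_mod_cast h2
  · have h1 := hab x y
    rw [R3.sum_mul, R3.dia, R3.adj, if_neg hA, if_neg hne, com_eq symm] at h1
    have h2 : ((Nat.card {z // A x z ∧ A y z} : ℕ) : ℂ) = (b : ℂ) := by rw [h1]; ring
    exact_mod_cast h2
  · have h1 : k * (k - 1 - a) + (k + k * a) = k * k := by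
      obtain ⟨c, rfl⟩ := Nat.exists_eq_add_of_le hle
      rw [show a + 1 + c - 1 - a = c by omega]
      ring
    omega
  · obtain ⟨c, hc⟩ := hsq hne
    exact ⟨c, by rw [← hD, hc, sq]⟩

end Cfsg.Agent.H689.EB
end

-- part: H689/EB/RankRow
section
/-!
# TEAM EB: rank 3 rows (helper689)
-/

set_option autoImplicit false
set_option linter.style.haveILetI false

namespace Cfsg.Agent.H689.EB

open Cfsg Cfsg.Agent.H610.EB Cfsg.Agent.H694 Cfsg.Agent.H684.EB
open MulAction (stabilizer orbitRel)

universe u v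

variable {S : Type u} [Group S] {X : Type v} [Finite X] [MulAction S X] {A : X → X → Prop} {n k lam mu : ℕ}

omit [Finite X] in
/-- a rank 3 graph from the data at one point -/
theorem rank3_of_base {x₀ y₁ y₂ : X} (card : Nat.card X = n) (symm : ∀ x y, A x y → A y x) (irrefl : ¬ A x₀ x₀)
    (inv : ∀ (g : S) x y, A x y → A (g • x) (g • y)) (trans : ∀ x : X, ∃ g : S, g • x₀ = x)
    (orb1 : ∀ y, A x₀ y → ∃ g : S, g • x₀ = x₀ ∧ g • y₁ = y)
    (orb2 : ∀ y, x₀ ≠ y → ¬ A x₀ y → ∃ g : S, g • x₀ = x₀ ∧ g • y₂ = y) (deg : Nat.card {z // A x₀ z} = k)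
    (hlam : Nat.card {z // A x₀ z ∧ A y₁ z} = lam) (hmu : Nat.card {z // A x₀ z ∧ A y₂ z} = mu) :
    Rank3 S X A n k lam mu := by
  have hinv : ∀ (g : S) (x y : X), A (g • x) (g • y) ↔ A x y := by
    intro g x y
    refine ⟨fun h1 => ?_, inv g x y⟩
    have h2 := inv g⁻¹ _ _ h1
    rwa [inv_smul_smul, inv_smul_smul] at h2
  have pair : ∀ {x y : X} {P : X → X → Prop} (_ : ∀ (g : S) x y, P (g • x) (g • y) ↔ P x y) {y' : X}
      (_ : ∀ y, P x₀ y → ∃ g : S, g • x₀ = x₀ ∧ g • y' = y), P x y → ∃ g : S, g • x₀ = x ∧ g • y' = y := by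
    intro x y P hP y' h1 h2
    obtain ⟨g, rfl⟩ := trans x
    have h3 : P x₀ (g⁻¹ • y) := by
      rw [← hP g, smul_inv_smul]
      exact h2
    obtain ⟨j, hj1, hj2⟩ := h1 _ h3
    exact ⟨g * j, by rw [mul_smul, hj1], by rw [mul_smul, hj2, smul_inv_smul]⟩
  have hinv2 : ∀ (g : S) (x y : X), (g • x ≠ g • y ∧ ¬ A (g • x) (g • y)) ↔ (x ≠ y ∧ ¬ A x y) := by
    intro g x y
    rw [hinv, Ne, smul_left_cancel_iff]
  have pair1 : ∀ {x y : X}, A x y → ∃ g : S, g • x₀ = x ∧ g • y₁ = y := fun h => pair hinv orb1 h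
  have pair2 : ∀ {x y : X}, x ≠ y → ¬ A x y → ∃ g : S, g • x₀ = x ∧ g • y₂ = y := fun h h' =>
    pair (P := fun x y => x ≠ y ∧ ¬ A x y) hinv2 (fun y hy => orb2 y hy.1 hy.2) ⟨h, h'⟩
  have cnt : ∀ (g : S) (y : X), Nat.card {z // A (g • x₀) z ∧ A (g • y) z} = Nat.card {z // A x₀ z ∧ A y z} := by
    intro g y
    refine Nat.card_congr
      { toFun := fun z => ⟨g⁻¹ • z.1, ?_⟩
        invFun := fun z => ⟨g • z.1, (hinv _ _ _).2 z.2.1, (hinv _ _ _).2 z.2.2⟩
        left_inv := fun z => Subtype.ext (smul_inv_smul g z.1)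
        right_inv := fun z => Subtype.ext (inv_smul_smul g z.1) }
    constructor
    · rw [← hinv g, smul_inv_smul]
      exact z.2.1
    · rw [← hinv g, smul_inv_smul]
      exact z.2.2
  exact
    { card := card
      symm := symm
      irrefl := fun x => by
        obtain ⟨g, rfl⟩ := trans x
        rw [hinv]
        exact irrefl
      inv := inv
      trans := fun x y => by
        obtain ⟨g, rfl⟩ := trans x
        obtain ⟨j, rfl⟩ := trans y
        exact ⟨j * g⁻¹, by rw [mul_smul, inv_smul_smul]⟩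
      orb1 := fun x y x' y' h1 h2 => by
        obtain ⟨g, rfl, rfl⟩ := pair1 h1
        obtain ⟨j, rfl, rfl⟩ := pair1 h2
        exact ⟨j * g⁻¹, by rw [mul_smul, inv_smul_smul], by rw [mul_smul, inv_smul_smul]⟩
      orb2 := fun x y x' y' h1 h2 h3 h4 => by
        obtain ⟨g, rfl, rfl⟩ := pair2 h1 h2
        obtain ⟨j, rfl, rfl⟩ := pair2 h3 h4
        exact ⟨j * g⁻¹, by rw [mul_smul, inv_smul_smul], by rw [mul_smul, inv_smul_smul]⟩
      deg := fun x => by
        obtain ⟨g, rfl⟩ := trans x
        rw [← deg]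
        refine Nat.card_congr
          { toFun := fun z => ⟨g⁻¹ • z.1, ?_⟩
            invFun := fun z => ⟨g • z.1, (hinv _ _ _).2 z.2⟩
            left_inv := fun z => Subtype.ext (smul_inv_smul g z.1)
            right_inv := fun z => Subtype.ext (inv_smul_smul g z.1) }
        rw [← hinv g, smul_inv_smul]
        exact z.2
      lam_eq := fun x y h => by
        obtain ⟨g, rfl, rfl⟩ := pair1 h
        rw [cnt, hlam]
      mu_eq := fun x y h h' => by
        obtain ⟨g, rfl, rfl⟩ := pair2 h h'
        rw [cnt, hmu] }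

omit [Finite X] in
/-- transport to an isomorphic copy -/
theorem rank3_actE (h : Rank3 S X A n k lam mu) {N : Type*} [Group N] (e : S ≃* N) :
    letI := actE e X
    Rank3 N X A n k lam mu := by
  letI := actE e X
  have hs : ∀ (s : S) (x : X), e s • x = s • x := by
    intro s x
    show e.symm (e s) • x = s • x
    rw [MulEquiv.symm_apply_apply]
  exact
    { card := h.card
      symm := h.symm
      irrefl := h.irrefl
      inv := fun g x y hxy => h.inv (e.symm g) x y hxy
      trans := fun x y => by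
        obtain ⟨g, hg⟩ := h.trans x y
        exact ⟨e g, by rw [hs, hg]⟩
      orb1 := fun x y x' y' h1 h2 => by
        obtain ⟨g, hg1, hg2⟩ := h.orb1 x y x' y' h1 h2
        exact ⟨e g, by rw [hs, hg1], by rw [hs, hg2]⟩
      orb2 := fun x y x' y' h1 h2 h3 h4 => by
        obtain ⟨g, hg1, hg2⟩ := h.orb2 x y x' y' h1 h2 h3 h4
        exact ⟨e g, by rw [hs, hg1], by rw [hs, hg2]⟩
      deg := h.deg
      lam_eq := h.lam_eq
      mu_eq := h.mu_eq }

/-- a point stabilizer is contained in no other point stabilizer -/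
theorem Rank3.inj (h : Rank3 S X A n k lam mu) (hk : 1 < k) (hkn : k + 2 < n) (x y : X)
    (hxy : stabilizer S x ≤ stabilizer S y) : x = y := by
  classical
  have := Fintype.ofFinite X
  by_contra hne
  by_cases hA : A x y
  · have h1 : ∀ z : {z // A x z}, z = ⟨y, hA⟩ := by
      rintro ⟨z, hz⟩
      obtain ⟨g, hg1, hg2⟩ := h.orb1 x y x z hA hz
      apply Subtype.ext
      have h2 : g • y = y := hxy (show g • x = x from hg1)
      exact hg2.symm.trans h2
    have h2 := h.deg x
    have h3 : Nat.card {z // A x z} ≤ 1 := by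
      rw [Finite.card_le_one_iff_subsingleton]
      exact ⟨fun a b => by rw [h1 a, h1 b]⟩
    omega
  · have h1 : ∀ z : X, z = x ∨ A x z ∨ z = y := by
      intro z
      by_cases hz : z = x
      · exact Or.inl hz
      · by_cases hz2 : A x z
        · exact Or.inr (Or.inl hz2)
        · obtain ⟨g, hg1, hg2⟩ := h.orb2 x y x z hne hA (Ne.symm hz) hz2
          have h2 : g • y = y := hxy (show g • x = x from hg1)
          exact Or.inr (Or.inr (by rw [← hg2, h2]))
    have h2 : (Finset.univ : Finset X) ⊆ insert x (insert y (Finset.univ.filter fun z => A x z)) := by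
      intro z _
      rcases h1 z with h3 | h3 | h3 <;> simp [h3]
    have h3 := Finset.card_le_card h2
    have h4 : (Finset.univ.filter fun z => A x z).card = k := by
      rw [← h.deg x, Nat.card_eq_fintype_card, Fintype.card_subtype]
    have h5 := Finset.card_insert_le x (insert y (Finset.univ.filter fun z => A x z))
    have h6 := Finset.card_insert_le y (Finset.univ.filter fun z => A x z)
    have h7 := h.card
    rw [Nat.card_eq_fintype_card, ← Finset.card_univ] at h7
    omega

/-- the rank is 3 -/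
theorem Rank3.card_orbits (h : Rank3 S X A n k lam mu) (hk : 0 < k) (hkn : k + 1 < n) :
    Nat.card (orbitRel.Quotient S (X × X)) = 3 := by
  classical
  have := Fintype.ofFinite X
  let f : X × X → Fin 3 := fun z => if z.1 = z.2 then 0 else if A z.1 z.2 then 1 else 2
  have hinv : ∀ (g : S) (x y : X), A (g • x) (g • y) ↔ A x y := by
    intro g x y
    refine ⟨fun h1 => ?_, h.inv g x y⟩
    have h2 := h.inv g⁻¹ _ _ h1
    rwa [inv_smul_smul, inv_smul_smul] at h2
  have hf : ∀ a b : X × X, (orbitRel S (X × X)) a b → f a = f b := by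
    intro a b hab
    obtain ⟨g, rfl⟩ := hab
    have h1 : (g • b).1 = g • b.1 := rfl
    have h2 : (g • b).2 = g • b.2 := rfl
    simp only [f, h1, h2, smul_left_cancel_iff, hinv]
  have hn : 0 < n := by omega
  have hX : Nonempty X := by
    rw [← Fintype.card_pos_iff, ← Nat.card_eq_fintype_card, h.card]
    exact hn
  obtain ⟨x⟩ := hX
  obtain ⟨y, hy⟩ : ∃ y, A x y := by
    by_contra hcon
    push Not at hcon
    have h1 := h.deg x
    have : IsEmpty {y // A x y} := ⟨fun y => hcon y.1 y.2⟩
    rw [Nat.card_of_isEmpty] at h1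
    omega
  obtain ⟨z, hz1, hz2⟩ : ∃ z, x ≠ z ∧ ¬ A x z := by
    by_contra hcon
    push Not at hcon
    have h2 : (Finset.univ : Finset X) ⊆ insert x (Finset.univ.filter fun z => A x z) := by
      intro z _
      by_cases hxz : x = z
      · simp [hxz]
      · simp [hcon z hxz]
    have h3 := Finset.card_le_card h2
    have h4 : (Finset.univ.filter fun z => A x z).card = k := by
      rw [← h.deg x, Nat.card_eq_fintype_card, Fintype.card_subtype]
    have h5 := Finset.card_insert_le x (Finset.univ.filter fun z => A x z)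
    have h7 := h.card
    rw [Nat.card_eq_fintype_card, ← Finset.card_univ] at h7
    omega
  have hxy : x ≠ y := by
    rintro rfl
    exact h.irrefl _ hy
  have hbij : Function.Bijective (Quotient.lift (s := orbitRel S (X × X)) f hf) := by
    constructor
    · intro a b
      induction a using Quotient.inductionOn with | _ a => ?_
      induction b using Quotient.inductionOn with | _ b => ?_
      intro hab
      have hab' : f a = f b := hab
      apply Quotient.sound
      show (orbitRel S (X × X)) a b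
      rw [MulAction.orbitRel_apply]
      obtain ⟨a1, a2⟩ := a
      obtain ⟨b1, b2⟩ := b
      simp only [f] at hab'
      by_cases e1 : a1 = a2
      · by_cases e2 : b1 = b2
        · obtain ⟨g, hg⟩ := h.trans b1 a1
          refine ⟨g, ?_⟩
          show (g • b1, g • b2) = (a1, a2)
          rw [← e2, hg, ← e1]
        · exfalso
          rw [if_pos e1, if_neg e2] at hab'
          split_ifs at hab' <;> exact absurd hab' (by decide)
      · rw [if_neg e1] at hab'
        by_cases e2 : b1 = b2
        · exfalso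
          rw [if_pos e2] at hab'
          split_ifs at hab' <;> exact absurd hab' (by decide)
        · rw [if_neg e2] at hab'
          by_cases e3 : A a1 a2
          · by_cases e4 : A b1 b2
            · obtain ⟨g, hg1, hg2⟩ := h.orb1 _ _ _ _ e4 e3
              exact ⟨g, Prod.ext hg1 hg2⟩
            · rw [if_pos e3, if_neg e4] at hab'
              exact absurd hab' (by decide)
          · by_cases e4 : A b1 b2
            · rw [if_neg e3, if_pos e4] at hab'
              exact absurd hab' (by decide)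
            · obtain ⟨g, hg1, hg2⟩ := h.orb2 _ _ _ _ e2 e4 e1 e3
              exact ⟨g, Prod.ext hg1 hg2⟩
    · intro i
      fin_cases i
      · exact ⟨Quotient.mk _ (x, x), by
          show f (x, x) = 0
          simp [f]⟩
      · exact ⟨Quotient.mk _ (x, y), by
          show f (x, y) = 1
          simp [f, hxy, hy]⟩
      · exact ⟨Quotient.mk _ (x, z), by
          show f (x, z) = 2
          simp [f, hz1, hz2]⟩
  rw [Nat.card_eq_of_bijective _ hbij, Nat.card_fin]

/-- **Rank 3 rows.** -/
theorem evenB_of_rank3 (h : Rank3 S X A n k lam mu) (hk : 1 < k) (hkn : k + 2 < n) (hn : Even n) (hl : Even lam)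
    (hm : Even mu) (haut : ∀ α : S ≃* S, ∃ p : Equiv.Perm X, ∀ (s : S) (x : X), α s • p x = p (s • x)) : EvenB S := by
  refine evenB_of_action (X := X) (Rank3.inj h hk hkn) haut ?_ ?_
  · rw [h.card, Rank3.card_orbits h (by omega) (by omega)]
    exact hn.add_odd (by decide)
  · intro N _ _ e M hM χ hχ
    have := Fintype.ofFinite X
    letI := actE e X
    exact Rank3.mem' (rank3_actE h e) (by omega) (by omega) hM hn hl hm χ hχ

/-- Rank 3 rows, in all universes. -/
theorem evenB_of_rank3' {S : Type*} [Group S] [MulAction S X] (h : Rank3 S X A n k lam mu) (hk : 1 < k)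
    (hkn : k + 2 < n) (hn : Even n) (hl : Even lam) (hm : Even mu)
    (haut : ∀ α : S ≃* S, ∃ p : Equiv.Perm X, ∀ (s : S) (x : X), α s • p x = p (s • x))
    {T : Type u} [Group T] (e : S ≃* T) : EvenB T := by
  letI := actE e X
  refine evenB_of_rank3 (rank3_actE h e) hk hkn hn hl hm fun α => ?_
  obtain ⟨p, hp⟩ := haut ((e.trans α).trans e.symm)
  refine ⟨p, fun t x => ?_⟩
  have h1 := hp (e.symm t) x
  show e.symm (α t) • p x = p (e.symm t • x)
  rw [← h1]
  show _ = e.symm (α (e (e.symm t))) • p x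
  rw [MulEquiv.apply_symm_apply]

end Cfsg.Agent.H689.EB
end

-- part: H689/EB/RowSuz
section
/-!
# TEAM EB: the row `Suz` (helper689)
-/

set_option autoImplicit false
set_option maxRecDepth 100000
set_option exponentiation.threshold 5000
set_option linter.style.haveILetI false

namespace Cfsg.Agent.H689.EB.Suz

open Cfsg Cfsg.Agent.H684.EB Cfsg.Agent.H689.EB
open Cfsg.Spor (Suz)
open Cfsg.Agent.Lib.BitNet Cfsg.Agent.Lib.BitNetSimple Cfsg.Agent.OddHalf.Table.SuzGraph
  Cfsg.Agent.OddHalf.Table.SuzRep Cfsg.Agent.OddHalf.Table.OutSuz Cfsg.Agent.SporadicRecognition.SuzOrder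
open Cfsg.Agent.Lib.PermNetOrbit (ncard_testBit pc)
open Cfsg.Agent.SporadicRecognition.SuzPhi (φ)
open Cfsg.Agent.H323.SuzOut (exists_τ τ_outer)

universe u

theorem row0 : row 0 = U2 := by decide +kernel

theorem U1_bits {p : ℕ} : U1.testBit p = true ↔ 1 ≤ p ∧ p < 1366 := by
  have h1 : U1 = (2 ^ 1365 - 1) <<< 1 := by decide +kernel
  rw [h1, Nat.testBit_shiftLeft, Nat.testBit_two_pow_sub_one, Bool.and_eq_true, decide_eq_true_eq, decide_eq_true_eq]
  omega

theorem U2_bits {p : ℕ} : U2.testBit p = true ↔ 1366 ≤ p ∧ p < 1782 := by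
  have h1 : U2 = (2 ^ 416 - 1) <<< 1366 := by decide +kernel
  rw [h1, Nat.testBit_shiftLeft, Nat.testBit_two_pow_sub_one, Bool.and_eq_true, decide_eq_true_eq, decide_eq_true_eq]
  omega

/-- counting points by bits -/
theorem card_bits {n U m : ℕ} {P : Fin n → Prop} (h : ∀ z : Fin n, P z ↔ U.testBit z = true)
    (hU : ∀ p, U.testBit p = true → p < n) (hm : {p : ℕ | U.testBit p = true}.ncard = m) :
    Nat.card {z : Fin n // P z} = m := by
  rw [← hm, ← Nat.card_coe_set_eq]
  exact Nat.card_congr
    { toFun := fun z => ⟨(z.1 : ℕ), (h z.1).1 z.2⟩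
      invFun := fun p => ⟨⟨p.1, hU p.1 p.2⟩, (h _).2 p.2⟩
      left_inv := fun z => rfl
      right_inv := fun p => rfl }

/-- adjacency in the Suzuki graph -/
def A (x y : Fin 1782) : Prop := (row x).testBit y = true

theorem row_lt : ∀ i j : ℕ, (row i).testBit j = true → j < 1782 := by
  intro i j h
  have h1 : (2 ^ 1782 - 1).testBit j = true := by
    have h2 : row i = ((blk (Nat.div i 99)) >>> (1782 * (i % 99))) &&& (2 ^ 1782 - 1) := rfl
    rw [h2, Nat.testBit_and, Bool.and_eq_true] at h
    exact h.2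
  rw [Nat.testBit_two_pow_sub_one, decide_eq_true_eq] at h1
  exact h1

/-- the action -/
@[reducible] noncomputable def act : MulAction Suz (Fin 1782) := MulAction.compHom (Fin 1782) ψ

theorem rank3 : letI := act; Rank3 Suz (Fin 1782) A 1782 416 100 96 := by
  letI := act
  have hsm : ∀ (g : Suz) (x : Fin 1782), g • x = ψ g x := fun g x => rfl
  have orb : ∀ {p₀ : ℕ} (hp₀ : p₀ < 1782) {V : ℕ} (_ : {p : ℕ | ∃ x ∈ Subgroup.closure S6, φ x p₀ = p} =
      {p | V.testBit p = true}) (y : Fin 1782), V.testBit y = true →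
      ∃ g : Suz, g • (0 : Fin 1782) = 0 ∧ g • (⟨p₀, hp₀⟩ : Fin 1782) = y := by
    intro p₀ hp₀ V h y hy
    have h1 : (y : ℕ) ∈ {p | V.testBit p = true} := hy
    rw [← h] at h1
    obtain ⟨g, hg, hgy⟩ := h1
    refine ⟨g, ?_, ?_⟩
    · apply Fin.ext
      rw [hsm, ψ_val]
      exact fix_S6 g hg
    · apply Fin.ext
      rw [hsm, ψ_val]
      exact hgy
  refine rank3_of_base (x₀ := 0) (y₁ := ⟨1366, by norm_num⟩) (y₂ := ⟨1, by norm_num⟩) ?_ ?_ ?_ ?_ ?_ ?_ ?_ ?_ ?_ ?_
  · simp
  · intro x y h
    unfold A at h ⊢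
    rw [symCheck_sound sym (lt_of_lt_of_le y.2 (by norm_num)) (lt_of_lt_of_le x.2 (by norm_num))]
    exact h
  · intro h
    have h1 : (row 0).testBit 0 = true := h
    rw [row0, U2_bits] at h1
    omega
  · intro g x y h
    exact (mem_Aut.1 (ψ_mem g) x y).trans h
  · intro x
    have h1 : (x : ℕ) ∈ {p | U0.testBit p = true} := by
      rw [Set.mem_ofPred_eq, U0_bits, decide_eq_true_eq]
      exact x.2
    rw [← orb0] at h1
    obtain ⟨g, -, hg⟩ := h1
    exact ⟨g, Fin.ext hg⟩
  · intro y hy
    have h1 : (row 0).testBit y = true := hy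
    rw [row0] at h1
    exact orb (by norm_num) orb2 y h1
  · intro y hne hy
    refine orb (by norm_num) orb1 y ?_
    have h1 : ¬ (row 0).testBit y = true := hy
    rw [row0, U2_bits] at h1
    rw [U1_bits]
    have h2 : (y : ℕ) ≠ 0 := fun h => hne (Fin.ext h.symm)
    have := y.2
    omega
  · refine card_bits (U := row 0) (fun z => Iff.rfl) (row_lt 0) ?_
    exact ncard_testBit (k := 11) (by decide +kernel) (by decide +kernel)
  · refine card_bits (U := row 0 &&& row 1366) (fun z => ?_) (fun p hp => ?_) ?_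
    · rw [Nat.testBit_and, Bool.and_eq_true]
      exact Iff.rfl
    · rw [Nat.testBit_and, Bool.and_eq_true] at hp
      exact row_lt 0 p hp.1
    · exact ncard_testBit (k := 11) (by decide +kernel) (by decide +kernel)
  · refine card_bits (U := row 0 &&& row 1) (fun z => ?_) (fun p hp => ?_) ?_
    · rw [Nat.testBit_and, Bool.and_eq_true]
      exact Iff.rfl
    · rw [Nat.testBit_and, Bool.and_eq_true] at hp
      exact row_lt 0 p hp.1
    · exact ncard_testBit (k := 11) (by decide +kernel) (by decide +kernel)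

/-- every automorphism is induced by a permutation of the points -/
theorem exists_perm (α : MulAut Suz) : ∃ P : Equiv.Perm (Fin 1782), ∀ g, ψ (α g) = P * ψ g * P⁻¹ := by
  obtain ⟨τ, hτ⟩ := exists_τ
  rcases Cfsg.Agent.KFacts.SuzOut.out_two τ α with ⟨n, hn⟩ | ⟨n, hn⟩ | ⟨n, hn⟩
  · exact absurd hn.symm (τ_outer hτ n)
  · refine ⟨ψ n, fun g => ?_⟩
    rw [← hn, MulAut.conj_apply, map_mul, map_mul, map_inv]
  · refine ⟨T * ψ n, fun g => ?_⟩
    have h1 : α = τ * MulAut.conj n := by rw [hn]; group
    rw [h1, MulAut.mul_apply, hτ, MulAut.conj_apply, map_mul, map_mul, map_inv]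
    group

/-- **The row `Suz`.** -/
theorem row {S : Type u} [Group S] (h : Cfsg.Spor.IsoSuz S) : EvenB S := by
  obtain ⟨e⟩ := h
  letI := act
  refine evenB_of_rank3' rank3 (by norm_num) (by norm_num) (by decide) (by decide) (by decide) (fun α => ?_) e.symm
  obtain ⟨p, hp⟩ := exists_perm α
  refine ⟨p, fun s x => ?_⟩
  show ψ (α s) (p x) = p (ψ s x)
  rw [hp, Equiv.Perm.mul_apply, Equiv.Perm.mul_apply, show p⁻¹ (p x) = x from p.symm_apply_apply x]

end Cfsg.Agent.H689.EB.Suz
end

private theorem dce_80afce63b547 : _root_.True := by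
  try have : _root_.True := by simp only [_root_.Cfsg.Agent.H690.Spor.RankThree.R3.adj.eq_1]
  try have : _root_.True := by simp only [_root_.Cfsg.Agent.H690.Spor.RankThree.R3.dia.eq_1]
  exact _root_.True.intro
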